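import Mathlib

/-!
# Connected sets with transitive homeomorphisms on closed points are irreducible
-/

set_option autoImplicit false

universe u

open Topology TopologicalSpace

namespace Groth.Agent.AbVarLib

variable {T : Type u} [TopologicalSpace T]

/-- Homeomorphisms preserve irreducible components. -/
theorem image_mem_irreducibleComponents {T' : Type u} [TopologicalSpace T'] (h : T ≃ₜ T') {Z : Set T}
    (hZ : Z ∈ irreducibleComponents T) : h '' Z ∈ irreducibleComponents T' := by
  refine ⟨hZ.1.image _ h.continuous.continuousOn, fun W hW hle => ?_⟩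
  have : Z ⊆ h.symm '' W := fun z hz => ⟨h z, hle ⟨z, hz, rfl⟩, h.symm_apply_apply z⟩
  have h2 := hZ.2 (hW.image _ h.symm.continuous.continuousOn) this
  intro w hw
  exact ⟨h.symm w, h2 ⟨w, hw, rfl⟩, h.apply_symm_apply w⟩

/-- A connected Noetherian Jacobson space with transitive homeomorphisms on closed points is irreducible. -/
theorem preirreducibleSpace_of_transitive [NoetherianSpace T] [JacobsonSpace T] [PreconnectedSpace T]
    (htr : ∀ a b : T, IsClosed ({a} : Set T) → IsClosed ({b} : Set T) → ∃ h : T ≃ₜ T, h a = b) :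
    PreirreducibleSpace T := by
  refine ⟨?_⟩
  rcases isEmpty_or_nonempty T with hT | ⟨⟨t⟩⟩
  · exact fun u v _ _ hu => (hT.false hu.some).elim
  let Z0 := irreducibleComponent t
  have hZ0 : Z0 ∈ irreducibleComponents T := irreducibleComponent_mem_irreducibleComponents t
  have hfin := NoetherianSpace.finite_irreducibleComponents (α := T)
  let O : Set T := ⋃₀ (irreducibleComponents T \ {Z0})
  have hOc : IsClosed O := by
    rw [show O = ⋃ Z ∈ irreducibleComponents T \ {Z0}, id Z from Set.sUnion_eq_biUnion]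
    exact (hfin.subset Set.diff_subset).isClosed_biUnion fun Z hZ => isClosed_of_mem_irreducibleComponents Z hZ.1
  have hne : (Z0 \ O).Nonempty := by
    rw [Set.diff_nonempty]
    intro hsub
    have h1 : Z0 ⊆ ⋃₀ ↑((hfin.subset (Set.diff_subset : irreducibleComponents T \ {Z0} ⊆ _)).toFinset) := by
      rw [Set.Finite.coe_toFinset]; exact hsub
    obtain ⟨Z, hZ, hle⟩ := isIrreducible_iff_sUnion_isClosed.mp hZ0.1 _
      (fun Z hZ => isClosed_of_mem_irreducibleComponents Z ((Set.Finite.mem_toFinset _).mp hZ).1) h1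
    obtain ⟨hZ1, hZ2⟩ := (Set.Finite.mem_toFinset _).mp hZ
    exact hZ2 (Set.Subset.antisymm (hZ0.2 hZ1.1 hle) hle)
  obtain ⟨b, ⟨hb0, hbO⟩, hb⟩ := nonempty_inter_closedPoints hne
    ((isClosed_irreducibleComponent).isLocallyClosed.inter hOc.isOpen_compl.isLocallyClosed)
  have huniq : ∀ Z ∈ irreducibleComponents T, b ∈ Z → Z = Z0 := fun Z hZ hbZ => by
    by_contra hne'
    exact hbO ⟨Z, ⟨hZ, hne'⟩, hbZ⟩
  have hall : ∀ a, IsClosed ({a} : Set T) → ∀ Z ∈ irreducibleComponents T, ∀ Z' ∈ irreducibleComponents T,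
      a ∈ Z → a ∈ Z' → Z = Z' := by
    intro a ha Z hZ Z' hZ' h1 h2
    obtain ⟨h, rfl⟩ := htr a b ha hb
    exact h.toEquiv.injective.image_injective
      ((huniq _ (image_mem_irreducibleComponents h hZ) ⟨a, h1, rfl⟩).trans
        (huniq _ (image_mem_irreducibleComponents h hZ') ⟨a, h2, rfl⟩).symm)
  have hdisj : Z0 ∩ O = ∅ := by
    by_contra hne'
    obtain ⟨a, ⟨ha0, Z, ⟨hZ, hZne⟩, haZ⟩, ha⟩ := nonempty_inter_closedPoints (Set.nonempty_iff_ne_empty.mpr hne')
      (isClosed_irreducibleComponent.inter hOc).isLocallyClosed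
    exact hZne (hall a ha Z hZ Z0 hZ0 haZ ha0)
  have hopen : IsOpen Z0 := by
    have : Z0 = Oᶜ := by
      refine Set.Subset.antisymm (fun x hx hxO => (Set.eq_empty_iff_forall_notMem.mp hdisj x) ⟨hx, hxO⟩) fun x hx => ?_
      by_contra hxZ
      exact hx ⟨irreducibleComponent x, ⟨irreducibleComponent_mem_irreducibleComponents x,
        fun he => hxZ (he ▸ mem_irreducibleComponent)⟩, mem_irreducibleComponent⟩
    rw [this]; exact hOc.isOpen_compl
  have huniv : Z0 = Set.univ := IsClopen.eq_univ ⟨isClosed_irreducibleComponent, hopen⟩ ⟨t, mem_irreducibleComponent⟩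
  exact huniv ▸ hZ0.1.2

/-- In a closed subset with irreducible connected components through closed points, the irreducible components
are those connected components. -/
theorem exists_connectedComponentIn_of_component [JacobsonSpace T] {A : Set T} (hA : IsClosed A)
    (hirr : ∀ x ∈ A, IsClosed ({x} : Set T) → IsIrreducible (connectedComponentIn A x))
    (Z : Set A) (hZ : Z ∈ irreducibleComponents A) :
    ∃ x ∈ A, IsClosed ({x} : Set T) ∧ topologicalKrullDim Z = topologicalKrullDim (connectedComponentIn A x) := by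
  have hcl : IsClosed (Subtype.val '' Z) := hA.isClosedMap_subtype_val _ (isClosed_of_mem_irreducibleComponents Z hZ)
  obtain ⟨x, hx, hxc⟩ := nonempty_inter_closedPoints (hZ.1.nonempty.image _) hcl.isLocallyClosed
  have hxA : x ∈ A := by obtain ⟨y, -, rfl⟩ := hx; exact y.2
  refine ⟨x, hxA, hxc, ?_⟩
  have hZi : IsIrreducible (Subtype.val '' Z) := hZ.1.image _ continuous_subtype_val.continuousOn
  have h1 : Subtype.val '' Z ⊆ connectedComponentIn A x :=
    hZi.isConnected.isPreconnected.subset_connectedComponentIn hx (Subtype.coe_image_subset A Z)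
  have h2 : IsIrreducible ((Subtype.val ⁻¹' connectedComponentIn A x) : Set A) := by
    obtain ⟨⟨c, hc⟩, hpre⟩ := hirr x hxA hxc
    refine ⟨⟨⟨c, connectedComponentIn_subset A x hc⟩, hc⟩, ?_⟩
    rintro _ _ ⟨U, hU, rfl⟩ ⟨V, hV, rfl⟩ ⟨p, hp, hpU⟩ ⟨q, hq, hqV⟩
    obtain ⟨r, hr, hrU, hrV⟩ := hpre U V hU hV ⟨p, hp, hpU⟩ ⟨q, hq, hqV⟩
    exact ⟨⟨r, connectedComponentIn_subset A x hr⟩, hr, hrU, hrV⟩
  have h3 := hZ.2 h2 (fun z hz => h1 ⟨z, hz, rfl⟩)
  have h4 : Subtype.val '' Z = connectedComponentIn A x := h1.antisymm fun c hc =>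
    ⟨⟨c, connectedComponentIn_subset A x hc⟩, h3 hc, rfl⟩
  rw [← h4]
  exact IsHomeomorph.topologicalKrullDim_eq _ (hA.isClosedEmbedding_subtypeVal.isEmbedding.homeomorphImage Z).isHomeomorph

end Groth.Agent.AbVarLib
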