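import Groth.Agent.AbVarLib.FibreRigid

/-!
# Fibres of morphisms from abelian varieties are equidimensional
-/

set_option autoImplicit false
set_option maxHeartbeats 1000000
set_option backward.isDefEq.respectTransparency.types false
set_option linter.style.haveILetI false

universe u

open CategoryTheory CategoryTheory.Limits MonoidalCategory CartesianMonoidalCategory MonObj AlgebraicGeometry

namespace Groth.Agent.AbVarLib

/-- Homeomorphisms carry equidimensionality. -/
theorem forall_component_of_homeomorph {T T' : Type u} [TopologicalSpace T] [TopologicalSpace T'] (h : T ≃ₜ T')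
    {d : WithBot ℕ∞} (hd : ∀ Z ∈ irreducibleComponents T', topologicalKrullDim Z = d) :
    ∀ Z ∈ irreducibleComponents T, topologicalKrullDim Z = d := fun Z hZ => by
  rw [← hd _ (image_mem_irreducibleComponents h hZ)]
  exact IsHomeomorph.topologicalKrullDim_eq _ (h.isEmbedding.homeomorphImage Z).isHomeomorph

/-- The dimension of the component of the unit in its fibre. -/
noncomputable def unitFibreDim {k : Type u} [Field k] {X : Over (Spec (CommRingCat.of k))} [GrpObj X] {Y : Scheme.{u}}
    (f : X.left ⟶ Y) : WithBot ℕ∞ :=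
  topologicalKrullDim (connectedComponentIn (f ⁻¹' {f (η[X].left (IsLocalRing.closedPoint k))})
    (η[X].left (IsLocalRing.closedPoint k)))

/-- Over an algebraically closed field, rational fibres are equidimensional. -/
theorem dim_of_algClosed {K : Type u} [Field K] [IsAlgClosed K] {X : Over (Spec (CommRingCat.of K))} [GrpObj X]
    [IsProper X.hom] [IsIntegral X.left] {Y : Scheme.{u}} (q : Y ⟶ Spec (CommRingCat.of K)) [IsSeparated q]
    (f : X.left ⟶ Y) (hf : f ≫ q = X.hom) (y : Y) (hy : IsClosed ({y} : Set Y))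
    (Z : Set ↥(f ⁻¹' {y})) (hZ : Z ∈ irreducibleComponents ↥(f ⁻¹' {y})) :
    topologicalKrullDim Z = unitFibreDim f := by
  let pt : ↥(Spec (CommRingCat.of K)) := IsLocalRing.closedPoint K
  haveI : JacobsonSpace X.left := LocallyOfFiniteType.jacobsonSpace X.hom
  haveI : IsLocallyNoetherian X.left := LocallyOfFiniteType.isLocallyNoetherian X.hom
  haveI : CompactSpace X.left := QuasiCompact.compactSpace_of_compactSpace X.hom
  haveI : IsNoetherian X.left := {}
  let e := η[X].left pt
  let A := f ⁻¹' {f e}
  let C := connectedComponentIn A e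
  have hrat : ∀ a : X.left, IsClosed ({a} : Set X.left) →
      ∃ x : 𝟙_ (Over (Spec (CommRingCat.of K))) ⟶ X, x.left pt = a := fun a ha =>
    ⟨Over.homMk (pointOfClosedPoint X.hom a ha) (pointOfClosedPoint_comp _ _ _), pointOfClosedPoint_apply _ _ _ _⟩
  have he : IsClosed ({e} : Set X.left) := GrpSchLib.isClosed_unitPt
  have hfe : IsClosed ({f e} : Set Y) := by
    haveI : UniversallyClosed (f ≫ q) := by rw [hf]; infer_instance
    haveI : UniversallyClosed f := UniversallyClosed.of_comp_of_isSeparated f q
    simpa using f.isClosedMap _ he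
  have hAc : IsClosed A := hfe.preimage f.continuous
  have hCc : IsClosed C := isClosed_of_closure_subset
    (isPreconnected_connectedComponentIn.closure.subset_connectedComponentIn
      (subset_closure (mem_connectedComponentIn (show e ∈ A from rfl)))
      (closure_minimal (connectedComponentIn_subset _ _) hAc))
  have hirr : IsIrreducible C := by
    haveI : JacobsonSpace C := JacobsonSpace.of_isClosedEmbedding hCc.isClosedEmbedding_subtypeVal
    haveI : PreconnectedSpace C := Subtype.preconnectedSpace isPreconnected_connectedComponentIn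
    have hclosed : ∀ a : C, IsClosed ({a} : Set C) → IsClosed ({(a : X.left)} : Set X.left) := fun a ha => by
      simpa using hCc.isClosedMap_subtype_val _ ha
    have hto : ∀ a : C, IsClosed ({a} : Set C) → ∃ h : C ≃ₜ C,
        h ⟨e, mem_connectedComponentIn (show e ∈ A from rfl)⟩ = a := by
      intro a ha
      obtain ⟨x, hx⟩ := hrat _ (hclosed a ha)
      have hxC : (transl x).left '' C = C := by
        have h := transl_image_component q f hf x
        rw [hx, show f (a : X.left) = f e from connectedComponentIn_subset A e a.2] at h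
        exact h.trans (connectedComponentIn_eq a.2).symm
      refine ⟨((translHomeo x).isEmbedding.homeomorphImage C).trans (Homeomorph.setCongr hxC), Subtype.ext ?_⟩
      show (transl x).left (η[X].left pt) = a
      rw [transl_apply, ← hx, show η[X] = 1 by
        rw [Hom.one_def, toUnit_unique (toUnit (𝟙_ (Over (Spec (CommRingCat.of K))))) (𝟙 _),
          Category.id_comp], _root_.mul_one]
    haveI := preirreducibleSpace_of_transitive (T := C) fun a b ha hb => by
      obtain ⟨ga, hga⟩ := hto a ha
      obtain ⟨gb, hgb⟩ := hto b hb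
      exact ⟨ga.symm.trans gb, by rw [Homeomorph.trans_apply, ← hga, Homeomorph.symm_apply_apply, hgb]⟩
    refine ⟨⟨e, mem_connectedComponentIn (show e ∈ A from rfl)⟩, ?_⟩
    have := (PreirreducibleSpace.isPreirreducible_univ (X := C)).image Subtype.val continuous_subtype_val.continuousOn
    rwa [Set.image_univ, Subtype.range_coe] at this
  have hcomp : ∀ x ∈ f ⁻¹' {y}, IsClosed ({x} : Set X.left) →
      IsIrreducible (connectedComponentIn (f ⁻¹' {y}) x) ∧
        topologicalKrullDim (connectedComponentIn (f ⁻¹' {y}) x) = unitFibreDim f := by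
    intro x hxy hxc
    obtain ⟨x', rfl⟩ := hrat x hxc
    rw [show y = f (x'.left pt) from (Set.mem_singleton_iff.mp hxy).symm, ← transl_image_component q f hf x']
    exact ⟨hirr.image _ (transl x').left.continuous.continuousOn,
      (IsHomeomorph.topologicalKrullDim_eq _ ((translHomeo x').isEmbedding.homeomorphImage C).isHomeomorph).symm⟩
  obtain ⟨x, hxA, hxc, hdim⟩ := exists_connectedComponentIn_of_component (hy.preimage f.continuous)
    (fun x hx hxc => (hcomp x hx hxc).1) Z hZ
  rw [hdim, (hcomp x hxA hxc).2]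

variable {k : Type u} [Field k] (X : Over (Spec (CommRingCat.of k))) [GrpObj X] [IsProper X.hom]
  [GeometricallyIntegral X.hom] {Y : Scheme.{u}} (q : Y ⟶ Spec (CommRingCat.of k)) [IsSeparated q]
  (f : X.left ⟶ Y) (hf : f ≫ q = X.hom)

include hf in
/-- All components of a fibre have the dimension of the unit component over a geometric point over it. -/
theorem exists_dim_of_geomPoint {K : Type u} [Field K] [IsAlgClosed K]
    (j0 : Spec (CommRingCat.of K) ⟶ Spec (CommRingCat.of k)) :
    ∃ D : WithBot ℕ∞, ∀ p : Spec (CommRingCat.of K) ⟶ Y, p ≫ q = j0 →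
      ∀ Z ∈ irreducibleComponents ↥(f.fiber (p (IsLocalRing.closedPoint K))), topologicalKrullDim Z = D := by
  haveI : Subsingleton ↥(Spec (CommRingCat.of K)) := inferInstanceAs (Subsingleton (PrimeSpectrum K))
  letI : GrpObj ((Over.pullback j0).obj X) := Functor.grpObjObj
  let X' := (Over.pullback j0).obj X
  haveI : IsProper X'.hom := MorphismProperty.pullback_snd X.hom j0 ‹_›
  haveI : GeometricallyIntegral X'.hom := MorphismProperty.pullback_snd X.hom j0 ‹_›
  haveI : IsIntegral X'.left := GeometricallyIntegral.isIntegral_of_subsingleton X'.hom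
  let qY : pullback q j0 ⟶ Spec (CommRingCat.of K) := pullback.snd q j0
  let f' : X'.left ⟶ pullback q j0 := pullback.lift (pullback.fst X.hom j0 ≫ f) (pullback.snd X.hom j0)
    (by rw [Category.assoc, hf, pullback.condition])
  have hf' : f' ≫ qY = X'.hom := pullback.lift_snd _ _ _
  have hsq : IsPullback (pullback.fst X.hom j0) f' f (pullback.fst q j0) := by
    refine IsPullback.of_bot (v₂₁ := qY) (v₂₂ := q) (h₃₁ := j0) ?_ (pullback.lift_fst _ _ _).symm
      (IsPullback.of_hasPullback q j0)
    rw [hf', hf]
    exact IsPullback.of_hasPullback X.hom j0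
  haveI : LocallyOfFiniteType (f ≫ q) := by rw [hf]; infer_instance
  haveI : LocallyOfFiniteType f := locallyOfFiniteType_of_comp f q
  refine ⟨unitFibreDim f', fun p hp => ?_⟩
  let s : Spec (CommRingCat.of K) ⟶ pullback q j0 := pullback.lift p (𝟙 _) (by rw [hp, Category.id_comp])
  haveI : IsClosedImmersion s := by
    haveI : IsClosedImmersion (s ≫ qY) := by rw [pullback.lift_snd]; infer_instance
    exact IsClosedImmersion.of_comp s qY
  let pt : ↥(Spec (CommRingCat.of K)) := IsLocalRing.closedPoint K
  have hrs : Set.range s = {s pt} := Set.eq_singleton_iff_unique_mem.mpr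
    ⟨⟨pt, rfl⟩, by rintro _ ⟨z, rfl⟩; rw [Subsingleton.elim z pt]⟩
  have hclosed : IsClosed ({s pt} : Set ↥(pullback q j0)) := hrs ▸ s.isClosedEmbedding.isClosed_range
  -- the geometric fibre
  let Z' := pullback f' s
  let a : Z' ⟶ X'.left := pullback.fst f' s
  haveI : IsClosedImmersion a := MorphismProperty.pullback_fst _ _ ‹_›
  have hra : Set.range a = f' ⁻¹' {s pt} := by
    rw [← hrs]; exact Scheme.Pullback.range_fst f' s
  let h1 : ↥Z' ≃ₜ ↥(f' ⁻¹' {s pt}) := a.isEmbedding.toHomeomorph.trans (Homeomorph.setCongr hra)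
  have hZ' : ∀ T ∈ irreducibleComponents ↥Z', topologicalKrullDim T = unitFibreDim f' :=
    forall_component_of_homeomorph h1 (dim_of_algClosed qY f' hf' (s pt) hclosed)
  -- descent to the fibre
  obtain ⟨⟨y, φ⟩, rfl⟩ := (Scheme.SpecToEquivOfField K Y).symm.surjective p
  let p' : Spec (CommRingCat.of K) ⟶ Y := Spec.map φ ≫ Y.fromSpecResidueField y
  have hyp : p' pt = y := by rw [Scheme.Hom.comp_apply, Scheme.fromSpecResidueField_apply]
  suffices key : ∀ w, y = w → ∀ Z ∈ irreducibleComponents ↥(f.fiber w),
      topologicalKrullDim Z = unitFibreDim f' from key _ hyp.symm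
  rintro w rfl
  have hout : IsPullback (a ≫ pullback.fst X.hom j0) (pullback.snd f' s) f p' := by
    have := (IsPullback.of_hasPullback f' s).paste_horiz hsq
    rwa [show s ≫ pullback.fst q j0 = p' from pullback.lift_fst _ _ _] at this
  let m : Z' ⟶ f.fiber y := pullback.lift (a ≫ pullback.fst X.hom j0) (pullback.snd f' s ≫ Spec.map φ)
    (by rw [hout.w, Category.assoc])
  have sq : IsPullback m (pullback.snd f' s) (f.fiberToSpecResidueField y) (Spec.map φ) := by
    refine IsPullback.of_right (h₁₂ := f.fiberι y) (h₂₂ := Y.fromSpecResidueField y) (v₁₃ := f) ?_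
      (pullback.lift_snd _ _ _) (IsPullback.of_hasPullback _ _)
    rw [show m ≫ f.fiberι y = a ≫ pullback.fst X.hom j0 from pullback.lift_fst _ _ _]
    exact hout
  haveI : LocallyOfFiniteType (f.fiberToSpecResidueField y) := MorphismProperty.pullback_snd _ _ ‹_›
  haveI : LocallyOfFiniteType (pullback.snd f' s) := MorphismProperty.of_isPullback sq ‹_›
  haveI : Flat (Spec.map φ) := by
    haveI : IsIntegral (Spec (Y.residueField y)) := inferInstance
    haveI : Subsingleton ↥(Spec (Y.residueField y)) := inferInstanceAs (Subsingleton (PrimeSpectrum (Y.residueField y)))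
    infer_instance
  haveI : Flat m := MorphismProperty.of_isPullback (P := @Flat) sq.flip ‹_›
  haveI : Surjective (Spec.map φ) := ⟨fun z => ⟨pt, Subsingleton.elim (α := PrimeSpectrum (Y.residueField y)) _ _⟩⟩
  haveI : Surjective m := MorphismProperty.of_isPullback (P := @Surjective) sq.flip ‹_›
  intro T hT
  obtain ⟨z, rfl, hz⟩ := DimFormulaLib.exists_generic_of_mem_irreducibleComponents hT
  obtain ⟨z', rfl⟩ := m.surjective z
  obtain ⟨ξ, hξ, hmax⟩ := MonoFibre.exists_isMaxPt z'
  have hmξ : m ξ = m z' := hz _ (hξ.map m.continuous)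
  rw [← hmξ, LocDimBC.dim_component (k := Y.residueField y) (f.fiberToSpecResidueField y) (m ξ) (hmξ ▸ hz),
    ← LocDimBC.localDim_fieldExtension (k := Y.residueField y) (K := K) sq ξ,
    ← LocDimBC.dim_component (k := K) (pullback.snd f' s) ξ hmax]
  exact hZ' _ (DimFormulaLib.closure_mem_irreducibleComponents hmax)

include hf in
/-- The fibres are equidimensional of one dimension. -/
theorem exists_fibre_dim : ∃ d : ℕ, ∀ (y : Y) (Z : Set ↥(f.fiber y)), Z ∈ irreducibleComponents ↥(f.fiber y) →
    topologicalKrullDim Z = d := by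
  let pt : ↥(Spec (CommRingCat.of k)) := IsLocalRing.closedPoint k
  let y₀ := f (η[X].left pt)
  have hη : η[X].left ≫ f ≫ q = 𝟙 _ := by rw [hf, Over.w]; rfl
  haveI : LocallyOfFiniteType (f ≫ q) := by rw [hf]; infer_instance
  haveI : LocallyOfFiniteType f := locallyOfFiniteType_of_comp f q
  haveI : LocallyOfFiniteType (f.fiberToSpecResidueField y₀) := MorphismProperty.pullback_snd _ _ ‹_›
  obtain ⟨z₀, -⟩ : ∃ z : f.fiber y₀, z = f.asFiber (η[X].left pt) := ⟨_, rfl⟩
  obtain ⟨ξ, -, hξ⟩ := MonoFibre.exists_isMaxPt z₀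
  let g₀ : f.fiber y₀ ⟶ Spec (CommRingCat.of (Y.residueField y₀)) := f.fiberToSpecResidueField y₀
  haveI : LocallyOfFiniteType g₀ := ‹LocallyOfFiniteType (f.fiberToSpecResidueField y₀)›
  obtain ⟨a, t, -, -, hloc, -⟩ := DimFormulaLib.field_dims (k := Y.residueField y₀) g₀ ξ
  refine ⟨a + t, fun y Z hZ => ?_⟩
  have h₀ : topologicalKrullDim ↥(closure ({ξ} : Set ↥(f.fiber y₀))) = ((a + t : ℕ) : WithBot ℕ∞) := by
    rw [LocDimBC.dim_component (k := Y.residueField y₀) (f.fiberToSpecResidueField y₀) ξ hξ]
    exact hloc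
  have hmem := DimFormulaLib.closure_mem_irreducibleComponents hξ
  let K := AlgebraicClosure (Y.residueField y)
  let p : Spec (CommRingCat.of K) ⟶ Y :=
    Spec.map (CommRingCat.ofHom (algebraMap (Y.residueField y) K)) ≫ Y.fromSpecResidueField y
  obtain ⟨D, hD⟩ := exists_dim_of_geomPoint X q f hf (p ≫ q)
  let p₀ : Spec (CommRingCat.of K) ⟶ Y := (p ≫ q) ≫ η[X].left ≫ f
  have hp₀ : p₀ ≫ q = p ≫ q := by
    show ((p ≫ q) ≫ η[X].left ≫ f) ≫ q = p ≫ q
    rw [Category.assoc, Category.assoc η[X].left, hη]
    exact Category.comp_id _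
  have hy₀ : p₀ (IsLocalRing.closedPoint K) = y₀ := by
    show (η[X].left ≫ f) ((p ≫ q) (IsLocalRing.closedPoint K)) = y₀
    rw [show (p ≫ q) (IsLocalRing.closedPoint K) = pt from Subsingleton.elim (α := PrimeSpectrum k) _ _]
    rfl
  have hy : p (IsLocalRing.closedPoint K) = y := by
    show (Y.fromSpecResidueField y) _ = y
    rw [Scheme.fromSpecResidueField_apply]
  have e₀ := hD p₀ hp₀
  rw [hy₀] at e₀
  have e₁ := hD p rfl
  rw [hy] at e₁
  rw [e₁ Z hZ, ← e₀ _ hmem, h₀]

end Groth.Agent.AbVarLib
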