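import Groth.Agent.AbVarLib.ConnTop
import Groth.Agent.MonoFibre.RigidityConn
import Groth.Agent.MonoFibre.RigidityProper
import Groth.Agent.MonoFibre.Orbit
import Groth.Agent.DVRCrit.Local
import Groth.Agent.LocDimBC.Comp
import Groth.Agent.FinGrpdLib.Perfect

/-!
# Fibres of morphisms from proper connected groups
-/

set_option autoImplicit false
set_option maxHeartbeats 1000000
set_option backward.isDefEq.respectTransparency.types false
set_option linter.style.haveILetI false

universe u

open CategoryTheory CategoryTheory.Limits MonoidalCategory CartesianMonoidalCategory MonObj AlgebraicGeometry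

namespace Groth.Agent.AbVarLib

variable {k : Type u} [Field k]

/-- A reduced connected universally closed scheme with a rational point has only constant functions. -/
theorem bijective_of_connected {F : Over (Spec (CommRingCat.of k))} [IsReduced F.left] [ConnectedSpace F.left]
    [UniversallyClosed F.hom] (x₀ : 𝟙_ (Over (Spec (CommRingCat.of k))) ⟶ F) :
    Function.Bijective ((Scheme.ΓSpecIso (CommRingCat.of k)).inv ≫ F.hom.appTop).hom := by
  let c := (Scheme.ΓSpecIso (CommRingCat.of k)).inv ≫ F.hom.appTop
  have hint : c.hom.IsIntegral := by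
    apply RingHom.isIntegral_respectsIso.2 (e := (Scheme.ΓSpecIso _).symm.commRingCatIsoToRingEquiv)
    exact isIntegral_appTop_of_universallyClosed F.hom
  let ev : Γ(F.left, ⊤) ⟶ CommRingCat.of k := x₀.left.appTop ≫ (Scheme.ΓSpecIso (CommRingCat.of k)).hom
  have h : c ≫ ev = 𝟙 _ := by
    simp only [c, ev, Category.assoc]
    rw [← Scheme.Hom.comp_appTop_assoc, Over.w x₀]
    show (Scheme.ΓSpecIso (CommRingCat.of k)).inv ≫ Scheme.Hom.appTop (𝟙 _) ≫ _ = _
    rw [Scheme.Hom.id_appTop, Category.id_comp, Iso.inv_hom_id]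
  haveI : Nonempty F.left := inferInstance
  haveI : Nontrivial Γ(F.left, ⊤) := ev.hom.domain_nontrivial
  refine ⟨RingHom.injective _, fun a => ⟨ev.hom a, ?_⟩⟩
  algebraize [c.hom]
  have hidem : ∀ e : Γ(F.left, ⊤), IsIdempotentElem e → e = 0 ∨ e = 1 := by
    intro e he
    have hclopen : IsClopen (F.left.basicOpen e : Set F.left) := by
      refine ⟨?_, (F.left.basicOpen e).2⟩
      rw [← isOpen_compl_iff]
      have : (F.left.basicOpen e : Set F.left)ᶜ = F.left.basicOpen (1 - e) := by
        refine Set.Subset.antisymm (fun x hx => ?_) fun x hx hx' => ?_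
        · have h1 : x ∈ (F.left.basicOpen (e + (1 - e)) : F.left.Opens) := by
            rw [add_sub_cancel, Scheme.basicOpen_one]; trivial
          rcases Scheme.basicOpen_add_le _ _ _ h1 with h1 | h1
          · exact absurd h1 hx
          · exact h1
        · have : x ∈ (F.left.basicOpen (e * (1 - e)) : F.left.Opens) := by
            rw [Scheme.basicOpen_mul]; exact ⟨hx', hx⟩
          rw [mul_sub, _root_.mul_one, he.eq, sub_self, Scheme.basicOpen_zero] at this
          exact this
      rw [this]; exact (F.left.basicOpen (1 - e)).2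
    rcases isClopen_iff.mp hclopen with h0 | h1
    · exact Or.inl (AlgebraicGeometry.eq_zero_of_basicOpen_eq_bot e (SetLike.coe_injective (by rw [h0]; rfl)))
    · refine Or.inr (sub_eq_zero.mp (AlgebraicGeometry.eq_zero_of_basicOpen_eq_bot (1 - e) ?_)).symm
      refine (eq_bot_iff.mpr fun x hx => ?_)
      have hxe : x ∈ (F.left.basicOpen e : Set F.left) := h1 ▸ Set.mem_univ x
      have : x ∈ (F.left.basicOpen (e * (1 - e)) : F.left.Opens) := by
        rw [Scheme.basicOpen_mul]; exact ⟨hxe, hx⟩
      rw [mul_sub, _root_.mul_one, he.eq, sub_self, Scheme.basicOpen_zero] at this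
      exact this
  have hfld : ∀ s : Γ(F.left, ⊤), s = 0 ∨ IsUnit s := by
    intro s
    obtain ⟨p, hp, hps⟩ : IsIntegral k s := hint s
    obtain ⟨r, q, hpq, hq⟩ := Polynomial.exists_eq_pow_rootMultiplicity_mul_and_not_dvd p hp.ne_zero 0 |>.imp'
      (fun _ => _) (fun q h => h) |> fun h => (show ∃ (r : ℕ) (q : Polynomial k), p = Polynomial.X ^ r * q ∧
        ¬ Polynomial.X ∣ q from by
          obtain ⟨q, h1, h2⟩ := Polynomial.exists_eq_pow_rootMultiplicity_mul_and_not_dvd p hp.ne_zero 0
          exact ⟨_, q, by simpa using h1, by simpa using h2⟩)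
    have h0 : q.coeff 0 ≠ 0 := fun h0 => hq (Polynomial.X_dvd_iff.mpr h0)
    have hsq : s * Polynomial.aeval s q = 0 := by
      have : (s * Polynomial.aeval s q) ^ (r + 1) = 0 := by
        have hp0 : s ^ r * Polynomial.aeval s q = 0 := by
          have := hps
          rw [← Polynomial.aeval_def, hpq, map_mul, map_pow, Polynomial.aeval_X] at this
          exact this
        rw [mul_pow, pow_succ, pow_succ (Polynomial.aeval s q)]
        calc s ^ r * s * (Polynomial.aeval s q ^ r * Polynomial.aeval s q)
            = (s ^ r * Polynomial.aeval s q) * (s * Polynomial.aeval s q ^ r) := by ring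
          _ = 0 := by rw [hp0, zero_mul]
      exact IsNilpotent.eq_zero ⟨r + 1, this⟩
    obtain ⟨t, ht⟩ : ∃ t, Polynomial.aeval s q = algebraMap k _ (q.coeff 0) + s * t := by
      refine ⟨Polynomial.aeval s q.divX, ?_⟩
      conv_lhs => rw [← Polynomial.X_mul_divX_add q]
      rw [map_add, map_mul, Polynomial.aeval_X, Polynomial.aeval_C, add_comm]
    let d := algebraMap k Γ(F.left, ⊤) (q.coeff 0)⁻¹
    have hd : d * algebraMap k _ (q.coeff 0) = 1 := by rw [← map_mul, inv_mul_cancel₀ h0, map_one]
    let e := -(d * (s * t))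
    have hse : s * e = s := by
      have h1 : s * algebraMap k _ (q.coeff 0) + s * (s * t) = 0 := by rw [← mul_add, ← ht]; exact hsq
      calc s * e = d * (-(s * (s * t))) := by ring
        _ = d * (s * algebraMap k _ (q.coeff 0)) := by rw [neg_eq_of_add_eq_zero_left h1]
        _ = s := by rw [_root_.mul_left_comm, hd, _root_.mul_one]
    have he : IsIdempotentElem e := by
      show e * e = e
      calc e * e = -(d * ((s * e) * t)) := by ring
        _ = e := by rw [hse]
    rcases hidem e he with h | h
    · left; rw [← hse, h, mul_zero]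
    · exact Or.inr (IsUnit.of_mul_eq_one (-(d * t)) (by rw [← h]; ring))
  rcases hfld (a - c.hom (ev.hom a)) with h0 | h0
  · exact (sub_eq_zero.mp h0).symm
  · exfalso
    have h1 := h0.map ev.hom
    rw [map_sub, show ev.hom (c.hom (ev.hom a)) = ev.hom a from congr(($h).hom (ev.hom a)), sub_self] at h1
    exact not_isUnit_zero h1

variable {X : Over (Spec (CommRingCat.of k))} [GrpObj X] [IsProper X.hom] [IsIntegral X.left]
  {Y : Scheme.{u}} (q : Y ⟶ Spec (CommRingCat.of k)) [IsSeparated q]

/-- Left translation by a rational point. -/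
noncomputable def transl (x : 𝟙_ (Over (Spec (CommRingCat.of k))) ⟶ X) : X ⟶ X := lift (toUnit X ≫ x) (𝟙 X) ≫ μ[X]

omit [IsProper X.hom] [IsIntegral X.left] in
theorem comp_transl {T : Over (Spec (CommRingCat.of k))} (g : T ⟶ X)
    (x : 𝟙_ (Over (Spec (CommRingCat.of k))) ⟶ X) : g ≫ transl x = (toUnit T ≫ x) * g := by
  rw [transl, comp_lift_assoc, comp_toUnit_assoc, Category.comp_id, Hom.mul_def]

/-- Left translation as a homeomorphism. -/
noncomputable def translHomeo (x : 𝟙_ (Over (Spec (CommRingCat.of k))) ⟶ X) : X.left ≃ₜ X.left :=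
  Scheme.homeoOfIso ((Over.forget _).mapIso
    { hom := transl x
      inv := transl x⁻¹
      hom_inv_id := by
        rw [comp_transl]
        show (toUnit X ≫ x⁻¹) * transl x = _
        rw [← Category.id_comp (transl x), comp_transl, GrpObj.comp_inv, _root_.inv_mul_cancel_left]
      inv_hom_id := by
        rw [comp_transl]
        show (toUnit X ≫ x) * transl x⁻¹ = _
        rw [← Category.id_comp (transl x⁻¹), comp_transl, GrpObj.comp_inv, _root_.mul_inv_cancel_left] })

omit [IsProper X.hom] [IsIntegral X.left] in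
theorem transl_apply (x y : 𝟙_ (Over (Spec (CommRingCat.of k))) ⟶ X) :
    (transl x).left (y.left (IsLocalRing.closedPoint k)) = (x * y).left (IsLocalRing.closedPoint k) := by
  have e : y ≫ transl x = x * y := by
    rw [comp_transl, toUnit_unique (toUnit (𝟙_ (Over (Spec (CommRingCat.of k))))) (𝟙 _), Category.id_comp]
  rw [← e]; rfl

/-- A translate of the component of the unit in its fibre lies in a fibre. -/
theorem transl_mem (f : X.left ⟶ Y) (hf : f ≫ q = X.hom) (x : 𝟙_ (Over (Spec (CommRingCat.of k))) ⟶ X)
    (a : X.left) (ha : a ∈ connectedComponentIn (f ⁻¹' {f (η[X].left (IsLocalRing.closedPoint k))})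
      (η[X].left (IsLocalRing.closedPoint k))) :
    f ((transl x).left a) = f (x.left (IsLocalRing.closedPoint k)) := by
  let pt : ↥(Spec (CommRingCat.of k)) := IsLocalRing.closedPoint k
  let Y' : Over (Spec (CommRingCat.of k)) := Over.mk q
  let f' : X ⟶ Y' := Over.homMk f hf
  let A := f ⁻¹' {f (η[X].left pt)}
  haveI : IsClosedImmersion (η[X] ≫ f').left := by
    haveI : IsSeparated Y'.hom := ‹_›
    haveI : IsClosedImmersion ((η[X] ≫ f').left ≫ Y'.hom) := by
      rw [Over.w]; exact inferInstanceAs (IsClosedImmersion (𝟙 (Spec (CommRingCat.of k))))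
    exact IsClosedImmersion.of_comp (η[X] ≫ f').left Y'.hom
  have hrange : Set.range (η[X] ≫ f').left = {f (η[X].left pt)} := by
    refine Set.eq_singleton_iff_unique_mem.mpr ⟨⟨pt, rfl⟩, ?_⟩
    rintro _ ⟨z, rfl⟩
    exact congrArg (η[X] ≫ f').left (Subsingleton.elim (α := PrimeSpectrum k) z pt)
  have hA : IsClosed A := by
    have : IsClosed ({f (η[X].left pt)} : Set Y) := hrange ▸ (η[X] ≫ f').left.isClosedEmbedding.isClosed_range
    exact this.preimage f.continuous
  let C := connectedComponentIn A (η[X].left pt)
  have hAη : η[X].left pt ∈ A := rfl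
  have hCc : IsClosed C := isClosed_of_closure_subset
    (isPreconnected_connectedComponentIn.closure.subset_connectedComponentIn
      (subset_closure (mem_connectedComponentIn hAη)) (closure_minimal (connectedComponentIn_subset _ _) hA))
  let Cl : TopologicalSpace.Closeds X.left := ⟨C, hCc⟩
  let j := (Scheme.IdealSheafData.vanishingIdeal Cl).subschemeι
  let F : Over (Spec (CommRingCat.of k)) := Over.mk (j ≫ X.hom)
  let i : F ⟶ X := Over.homMk j
  haveI hred : IsReduced F.left := DVRCrit.isReduced_vanishingIdeal Cl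
  haveI : IsClosedImmersion i.left := inferInstanceAs (IsClosedImmersion j)
  have hi : Set.range i.left = C := by
    show Set.range j = C
    rw [Scheme.IdealSheafData.range_subschemeι, Scheme.IdealSheafData.coe_support_vanishingIdeal]; rfl
  haveI : ConnectedSpace F.left := by
    rw [connectedSpace_iff_univ]
    refine ⟨?_, i.left.isEmbedding.isInducing.isPreconnected_image.mp
      (by rw [Set.image_univ, hi]; exact isPreconnected_connectedComponentIn)⟩
    obtain ⟨z, -⟩ : η[X].left pt ∈ Set.range i.left := hi ▸ mem_connectedComponentIn hAη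
    exact ⟨z, trivial⟩
  haveI : IsProper F.hom := by rw [← Over.w i]; infer_instance
  haveI : IsReduced (𝟙_ (Over (Spec (CommRingCat.of k)))).left := inferInstanceAs (IsReduced (Spec (CommRingCat.of k)))
  obtain ⟨e₀, he₀⟩ := FinGrpdLib.exists_lift_reduced η[X].left Cl (by
    rintro _ ⟨z, rfl⟩
    rw [show z = pt from Subsingleton.elim (α := PrimeSpectrum k) z pt]
    exact mem_connectedComponentIn (show η[X].left pt ∈ A from rfl))
  let e : 𝟙_ (Over (Spec (CommRingCat.of k))) ⟶ F := Over.homMk e₀ (by rw [← Over.w η[X], ← he₀, Category.assoc]; rfl)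
  have hie : e ≫ i = η[X] := Over.OverMorphism.ext he₀
  let h : F ⊗ X ⟶ Y' := ((snd F X) * (fst F X ≫ i)) ≫ f'
  have hconst : (F ◁ η[X]) ≫ h = toUnit _ ≫ (η[X] ≫ f') := by
    have h1 : (F ◁ η[X]) ≫ h = fst F _ ≫ i ≫ f' := by
      rw [show h = ((snd F X) * (fst F X ≫ i)) ≫ f' from rfl, ← Category.assoc, MonObj.comp_mul,
        whiskerLeft_fst_assoc, whiskerLeft_snd]
      rw [show snd F (𝟙_ _) ≫ η[X] = 1 by rw [Hom.one_def]; congr 1; exact toUnit_unique _ _, _root_.one_mul,
        Category.assoc]
    rw [h1]
    have h2 : i ≫ f' = toUnit F ≫ (η[X] ≫ f') := by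
      apply Over.OverMorphism.ext
      have hmem : Set.range (i ≫ f').left ⊆ Set.range (η[X] ≫ f').left := by
        rintro _ ⟨z, rfl⟩
        rw [hrange]
        have hz : i.left z ∈ Set.range i.left := ⟨z, rfl⟩
        rw [hi] at hz
        exact connectedComponentIn_subset A _ hz
      obtain ⟨l, hl⟩ : ∃ l, l ≫ (η[X] ≫ f').left = (i ≫ f').left := by
        let t := pullback.fst (i ≫ f').left (η[X] ≫ f').left
        haveI : IsClosedImmersion t := MorphismProperty.pullback_fst _ _ ‹_›
        haveI : Surjective t := ⟨fun z => by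
          have : z ∈ Set.range t := by
            rw [Scheme.Pullback.range_fst]
            exact hmem ⟨z, rfl⟩
          exact this⟩
        haveI := isIso_of_isClosedImmersion_of_surjective t
        exact ⟨inv t ≫ pullback.snd _ _, by rw [Category.assoc, ← pullback.condition, IsIso.inv_hom_id_assoc]⟩
      show (i ≫ f').left = (toUnit F).left ≫ (η[X] ≫ f').left; rw [← hl]
      congr 1
      have := congrArg (· ≫ Y'.hom) hl
      simp only [Category.assoc] at this
      rw [Over.w, Over.w] at this
      change l ≫ 𝟙 _ = F.hom at this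
      rw [Category.comp_id] at this
      rw [this]; exact (Category.comp_id _).symm.trans (Over.w (toUnit F)) |>.symm
    rw [h2, ← Category.assoc, toUnit_unique (fst F _ ≫ toUnit F) (toUnit _)]
  haveI : IsSeparated Y'.hom := ‹_›
  haveI : IsLocallyNoetherian X.left := LocallyOfFiniteType.isLocallyNoetherian X.hom
  have hkey : h = snd F X ≫ lift (toUnit X ≫ e) (𝟙 X) ≫ h := by
    obtain ⟨O, o, ho, hy, hO⟩ := MonoFibre.Rigidity.exists_open_factor
      (MonoFibre.Rigidity.isAffz_of_bijective (bijective_of_connected e)) e η[X] (η[X] ≫ f') h hconst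
    haveI := ho
    haveI : Nonempty O.left := by obtain ⟨c, -⟩ := hy; exact ⟨c⟩
    exact MonoFibre.Rigidity.eq_of_open_eq h _ o hO
  obtain ⟨z, rfl⟩ : a ∈ Set.range i.left := by rw [hi]; exact ha
  have h3 : lift (𝟙 F) (toUnit F ≫ x) ≫ h = i ≫ transl x ≫ f' := by
    rw [show h = ((snd F X) * (fst F X ≫ i)) ≫ f' from rfl, ← Category.assoc, MonObj.comp_mul, lift_fst_assoc,
      lift_snd, Category.id_comp, ← Category.assoc i, comp_transl]
  have h4 : lift (𝟙 F) (toUnit F ≫ x) ≫ h = toUnit F ≫ x ≫ f' := by
    rw [hkey, lift_snd_assoc, Category.assoc]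
    congr 2
    rw [show h = ((snd F X) * (fst F X ≫ i)) ≫ f' from rfl, ← Category.assoc, MonObj.comp_mul, lift_fst_assoc,
      lift_snd, Category.assoc, hie, ← Hom.one_def, _root_.mul_one, Category.id_comp]
  have h5 := congr(($(h3.symm.trans h4)).left z)
  exact h5.trans (congrArg (x ≫ f').left (Subsingleton.elim (α := PrimeSpectrum k) _ pt))

/-- The component of a rational point in its fibre is a translate of that of the unit. -/
theorem transl_image_component (f : X.left ⟶ Y) (hf : f ≫ q = X.hom)
    (x : 𝟙_ (Over (Spec (CommRingCat.of k))) ⟶ X) :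
    (transl x).left '' connectedComponentIn (f ⁻¹' {f (η[X].left (IsLocalRing.closedPoint k))})
      (η[X].left (IsLocalRing.closedPoint k)) =
    connectedComponentIn (f ⁻¹' {f (x.left (IsLocalRing.closedPoint k))}) (x.left (IsLocalRing.closedPoint k)) := by
  let pt : ↥(Spec (CommRingCat.of k)) := IsLocalRing.closedPoint k
  have hx1 : ∀ x : 𝟙_ (Over (Spec (CommRingCat.of k))) ⟶ X, (transl x).left (η[X].left pt) = x.left pt := fun x => by
    rw [transl_apply]
    congr 2
    rw [show η[X] = 1 by rw [Hom.one_def, toUnit_unique (toUnit (𝟙_ (Over (Spec (CommRingCat.of k))))) (𝟙 _),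
      Category.id_comp], _root_.mul_one]
  refine Set.Subset.antisymm ?_ ?_
  · refine IsPreconnected.subset_connectedComponentIn
      (isPreconnected_connectedComponentIn.image _ (transl x).left.continuous.continuousOn)
      ⟨_, mem_connectedComponentIn rfl, hx1 x⟩ ?_
    rintro _ ⟨a, ha, rfl⟩
    exact transl_mem q f hf x a ha
  · intro c hc
    let g := (transl x).left ≫ f
    have hg : g ≫ q = X.hom := by rw [Category.assoc, hf, Over.w]
    let a := (translHomeo x).symm c
    have hac : (transl x).left a = c := (translHomeo x).apply_symm_apply c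
    have ha : a ∈ connectedComponentIn (g ⁻¹' {g (η[X].left pt)}) (η[X].left pt) := by
      have hxA : η[X].left pt ∈ g ⁻¹' {g (η[X].left pt)} := rfl
      have h := (translHomeo x).image_connectedComponentIn hxA
      have himg : translHomeo x '' (g ⁻¹' {g (η[X].left pt)}) = f ⁻¹' {f (x.left pt)} := by
        rw [Homeomorph.image_eq_preimage_symm]
        ext c'
        show f ((transl x).left ((translHomeo x).symm c')) = f ((transl x).left (η[X].left pt)) ↔ _
        rw [show (transl x).left ((translHomeo x).symm c') = c' from (translHomeo x).apply_symm_apply c', hx1]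
        rfl
      rw [himg, show translHomeo x (η[X].left pt) = x.left pt from hx1 x] at h
      rw [← h] at hc
      obtain ⟨a', ha', rfl⟩ := hc
      show (translHomeo x).symm (translHomeo x a') ∈ _
      rw [Homeomorph.symm_apply_apply]
      exact ha'
    refine ⟨a, ?_, hac⟩
    have hsub : connectedComponentIn (g ⁻¹' {g (η[X].left pt)}) (η[X].left pt) ⊆
        f ⁻¹' {f (η[X].left pt)} := by
      intro b hb
      have h := transl_mem q g hg x⁻¹ b hb
      have e1 : ∀ z, (transl x).left ((transl x⁻¹).left z) = z := fun z => (translHomeo x).apply_symm_apply z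
      change f ((transl x).left ((transl x⁻¹).left b)) = f ((transl x).left (x⁻¹.left pt)) at h
      rw [e1, transl_apply, _root_.mul_inv_cancel] at h
      show f b = f (η[X].left pt)
      rw [h, Hom.one_def, toUnit_unique (toUnit (𝟙_ (Over (Spec (CommRingCat.of k))))) (𝟙 _), Category.id_comp]
    exact isPreconnected_connectedComponentIn.subset_connectedComponentIn
      (mem_connectedComponentIn (show η[X].left pt ∈ g ⁻¹' {g (η[X].left pt)} from rfl)) hsub ha

end Groth.Agent.AbVarLib
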